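import Cfsg.Agent.Lib.Helper35.J1P1045.Perm
import Cfsg.Agent.Lib.Helper35.Simple3

namespace Cfsg.Agent.Lib.Helper35.J1POrd.X0

open Cfsg.Agent.Lib.Helper35

set_option maxRecDepth 100000
noncomputable section
noncomputable def tR0 : Nat := 0x2082081f7df7df7df7df7de79e79e79e79e79e79e79e79e75d75d75d75d75d75d75d75d75d75d75d75d75d75d75d75d75d75d75d75d75d75d75d75d75d75c71c71c71c71c71c71c71c71c71c71c71c71c71c71c71c71c71c71c71c71c71c6db6db6db6db6db6db6db6db6db6db6db6db6db6db6db6db6db6db6db6db6db6db6db6db6db6db6db6db6db6db6db6db6db6db6db69a69a69a69a69a69a69a69a69a69a69a69a69a69a69a69a69a69a69a69a69a69a69a69a69a69a69a69a69a65965965965965965965965965965965965965965965965965965965965965965965965965965965965965965965965965965965965965965965965965965965965965965861861861861861861861861861861861861861861861861861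86186186186186186186186186186186186186186186175d75d75d75d75d75d75d75d75d75d75d75d75d75d75d75d75d75d75d75d75d75d75d75d75d75d75d75d75d75d75d75d75d75d75d75d75d75d75d75d75d75d75d75d75d75d75d75965965965965965965965965965965965965965965965965965965965965965965965965965965965965965965965965965965965555555555555555555555555555555555555555555555555555555555555555555555555555555555555555555555555555555555555555555555555555555555555555555555555545145145145145145145145145145145145145145145145145145145145145145145145145145145145144d34d34d34d34d34d34d34d34d34d34d34d34d34d34d34d34d34d34d34d34d34d34d34d34d34d34d34d34d34d34d34d34d34d34d24924924924924924924924924924924924924924924924924924924924514514514514514514514514514514514514514514514514514514514514514514514504104104104104104104104104104104104103cf3cf3cf3cf3cf3cf3cf3cf3cf3cf3cf3cf3cf3cf3ce38e38e38e38e38e38e38e38d34d34d34d34d34d34d34d34d34d34d34c30c30c30c30c30c2cb2cb2cb2cb2cb2cb2cb2cb28a28a28a28a2492492492492492082082071c71c71861861451451040c3081040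
def ot0 (i : Nat) : Nat := Nat.land (Nat.shiftRight tR0 (Nat.mul i 6)) 63
def sl0 : List (PLeaf J1P1045.pt) := [⟨[0], (fun i => (J1P1045.p0 i)), fun _ => rfl⟩, ⟨[1], (fun i => (J1P1045.p1 i)), fun _ => rfl⟩, ⟨[2], (fun i => (J1P1045.p2 i)), fun _ => rfl⟩, ⟨[2, 0], (fun i => (J1P1045.p0 (J1P1045.p2 i))), fun _ => rfl⟩, ⟨[0, 1], (fun i => (J1P1045.p1 (J1P1045.p0 i))), fun _ => rfl⟩, ⟨[1, 0, 1, 0, 2, 0, 1, 0, 1, 0, 2, 0, 1, 0, 2, 0, 2, 0, 1, 0, 2, 0, 2], (fun i => (J1P1045.p2 (J1P1045.p0 (J1P1045.p2 (J1P1045.p0 (J1P1045.p1 (J1P1045.p0 (J1P1045.p2 (J1P1045.p0 (J1P1045.p2 (J1P1045.p0 (J1P1045.p1 (J1P1045.p0 (J1P1045.p2 (J1P1045.p0 (J1P1045.p1 (J1P1045.p0 (J1P1045.p1 (J1P1045.p0 (J1P1045.p2 (J1P1045.p0 (J1P1045.p1 (J1P1045.p0 (J1P1045.p1 i)))))))))))))))))))))))), fun _ => rfl⟩, ⟨[1, 0, 1, 0, 2, 0, 2, 0, 1,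 0, 2, 0, 1, 0, 1, 0, 2, 0, 2, 0, 1, 0, 2, 0, 1, 0, 2, 0, 1, 0, 2, 0, 1, 0, 1, 0, 2, 0, 2], (fun i => (J1P1045.p2 (J1P1045.p0 (J1P1045.p2 (J1P1045.p0 (J1P1045.p1 (J1P1045.p0 (J1P1045.p1 (J1P1045.p0 (J1P1045.p2 (J1P1045.p0 (J1P1045.p1 (J1P1045.p0 (J1P1045.p2 (J1P1045.p0 (J1P1045.p1 (J1P1045.p0 (J1P1045.p2 (J1P1045.p0 (J1P1045.p1 (J1P1045.p0 (J1P1045.p2 (J1P1045.p0 (J1P1045.p2 (J1P1045.p0 (J1P1045.p1 (J1P1045.p0 (J1P1045.p1 (J1P1045.p0 (J1P1045.p2 (J1P1045.p0 (J1P1045.p1 (J1P1045.p0 (J1P1045.p2 (J1P1045.p0 (J1P1045.p2 (J1P1045.p0 (J1P1045.p1 (J1P1045.p0 (J1P1045.p1 i)))))))))))))))))))))))))))))))))))))))), fun _ => rfl⟩, ⟨[1, 0, 1, 0, 2, 0, 2, 0, 1, 0, 2, 0, 1, 0, 2, 0, 1, 0, 2, 0, 1, 0, 1, 0, 2, 0, 2, 0, 1, 0, 2, 0, 1, 0, 1, 0, 2, 0, 2], (fun i => (J1P1045.p2 (J1P1045.p0 (J1P1045.p2 (J1P1045.p0 (J1P1045.p1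 (J1P1045.p0 (J1P1045.p1 (J1P1045.p0 (J1P1045.p2 (J1P1045.p0 (J1P1045.p1 (J1P1045.p0 (J1P1045.p2 (J1P1045.p0 (J1P1045.p2 (J1P1045.p0 (J1P1045.p1 (J1P1045.p0 (J1P1045.p1 (J1P1045.p0 (J1P1045.p2 (J1P1045.p0 (J1P1045.p1 (J1P1045.p0 (J1P1045.p2 (J1P1045.p0 (J1P1045.p1 (J1P1045.p0 (J1P1045.p2 (J1P1045.p0 (J1P1045.p1 (J1P1045.p0 (J1P1045.p2 (J1P1045.p0 (J1P1045.p2 (J1P1045.p0 (J1P1045.p1 (J1P1045.p0 (J1P1045.p1 i)))))))))))))))))))))))))))))))))))))))), fun _ => rfl⟩]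
noncomputable def fq0 (j : Nat) : Bool := reachChk ot0 33 0 sl0 j
def fm0 (j : Nat) : Bool := markF ot0 33 j
noncomputable def tR1 : Nat := 0x6db6db6db6db6db6db6db6da6db6db6db6bb6db6db6db6db6db6db6db6db6db6db6db6db6bb6db6db6d36db6db6db6db6cf4db6d36db6db6db6d669b6db6db6db6db6db6db6d76db6db6da6d365b6db6db67b68f6da6db35b49b6db6bb4db6db699e7b67b4db6d36db6d9cd36da6936db6db6db4796cf6db6db6db6d2eda6db6db6db6cde7b6db3db6db6db6db6d96d9cdb62f4d76db4db4db6db6da2db6db4db67b6cf6d9edb67b6db6d76ca699ed36cd1da69b6db6db6d36db5d76db6db4db3db69b6d36d9bdb679edb5db3d5bdaeda6db6cf69b6da6db6d36db4db6cf3db67b6db6536db65b4cf6db6bb699e91ed369a65b6db6d96cf6db5d76db67b6db6db69b6cb6da4db6db6cb5cde9b6cb2db6db699edb6db6db69b6cf6d9cdb6db6db6db3cf499edb3c76db6db6db6db6db6db5db6db6da4db6db6db6db6db6db6db6d36db6db6da5db6db6db6db6db6db6bb6db4db6db6db6db6daedb6d36db6db6db6db6db6db6db6db6db6db6db6db6db6db6db6db6db6db6db6db6db2db6db67b67b67a6cf3562246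
def ot1 (i : Nat) : Nat := Nat.land (Nat.shiftRight tR1 (Nat.mul i 3)) 7
def sl1 : List (PLeaf J1P1045.pt) := [⟨[2, 0], (fun i => (J1P1045.p0 (J1P1045.p2 i))), fun _ => rfl⟩, ⟨[0, 1], (fun i => (J1P1045.p1 (J1P1045.p0 i))), fun _ => rfl⟩, ⟨[1, 0, 1, 0, 2, 0, 1, 0, 1, 0, 2, 0, 1, 0, 2, 0, 2, 0, 1, 0, 2, 0, 2], (fun i => (J1P1045.p2 (J1P1045.p0 (J1P1045.p2 (J1P1045.p0 (J1P1045.p1 (J1P1045.p0 (J1P1045.p2 (J1P1045.p0 (J1P1045.p2 (J1P1045.p0 (J1P1045.p1 (J1P1045.p0 (J1P1045.p2 (J1P1045.p0 (J1P1045.p1 (J1P1045.p0 (J1P1045.p1 (J1P1045.p0 (J1P1045.p2 (J1P1045.p0 (J1P1045.p1 (J1P1045.p0 (J1P1045.p1 i)))))))))))))))))))))))), fun _ => rfl⟩, ⟨[1, 0, 1, 0, 2, 0, 2, 0, 1, 0, 2, 0, 1, 0, 1, 0, 2, 0, 2, 0, 1, 0, 2, 0, 1, 0, 2, 0, 1, 0, 2, 0, 1, 0, 1, 0, 2, 0, 2], (fun i => (J1P1045.p2 (J1P1045.p0 (J1P1045.p2 (J1P1045.p0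 (J1P1045.p1 (J1P1045.p0 (J1P1045.p1 (J1P1045.p0 (J1P1045.p2 (J1P1045.p0 (J1P1045.p1 (J1P1045.p0 (J1P1045.p2 (J1P1045.p0 (J1P1045.p1 (J1P1045.p0 (J1P1045.p2 (J1P1045.p0 (J1P1045.p1 (J1P1045.p0 (J1P1045.p2 (J1P1045.p0 (J1P1045.p2 (J1P1045.p0 (J1P1045.p1 (J1P1045.p0 (J1P1045.p1 (J1P1045.p0 (J1P1045.p2 (J1P1045.p0 (J1P1045.p1 (J1P1045.p0 (J1P1045.p2 (J1P1045.p0 (J1P1045.p2 (J1P1045.p0 (J1P1045.p1 (J1P1045.p0 (J1P1045.p1 i)))))))))))))))))))))))))))))))))))))))), fun _ => rfl⟩, ⟨[1, 0, 1, 0, 2, 0, 2, 0, 1, 0, 2, 0, 1, 0, 2, 0, 1, 0, 2, 0, 1, 0, 1, 0, 2, 0, 2, 0, 1, 0, 2, 0, 1, 0, 1, 0, 2, 0, 2], (fun i => (J1P1045.p2 (J1P1045.p0 (J1P1045.p2 (J1P1045.p0 (J1P1045.p1 (J1P1045.p0 (J1P1045.p1 (J1P1045.p0 (J1P1045.p2 (J1P1045.p0 (J1P1045.p1 (J1P1045.p0 (J1P1045.p2 (J1P1045.p0 (J1P1045.p2 (J1P1045.p0 (J1P1045.p1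 (J1P1045.p0 (J1P1045.p1 (J1P1045.p0 (J1P1045.p2 (J1P1045.p0 (J1P1045.p1 (J1P1045.p0 (J1P1045.p2 (J1P1045.p0 (J1P1045.p1 (J1P1045.p0 (J1P1045.p2 (J1P1045.p0 (J1P1045.p1 (J1P1045.p0 (J1P1045.p2 (J1P1045.p0 (J1P1045.p2 (J1P1045.p0 (J1P1045.p1 (J1P1045.p0 (J1P1045.p1 i)))))))))))))))))))))))))))))))))))))))), fun _ => rfl⟩]
noncomputable def fq1 (j : Nat) : Bool := reachChk ot1 6 1 sl1 j
def fm1 (j : Nat) : Bool := markF ot1 6 j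
def yl0 : PLeaf J1P1045.pt := ⟨[0, 1, 0, 2, 0, 1, 0, 2, 0, 1, 0, 2, 0, 1, 0, 2, 0, 1, 0, 2, 0, 1, 0, 2, 0, 1, 0, 2, 0, 1, 0, 2, 0, 1, 0, 2, 0, 1, 0, 2, 0, 1, 0, 2, 0, 1, 0, 2, 0, 1, 0, 2, 0, 1, 0, 2, 0, 1, 0, 2, 0, 1, 0, 2, 0, 1, 0, 2, 0, 1, 0, 2, 0, 1, 0, 2], (fun i => (J1P1045.p2 (J1P1045.p0 (J1P1045.p1 (J1P1045.p0 (J1P1045.p2 (J1P1045.p0 (J1P1045.p1 (J1P1045.p0 (J1P1045.p2 (J1P1045.p0 (J1P1045.p1 (J1P1045.p0 (J1P1045.p2 (J1P1045.p0 (J1P1045.p1 (J1P1045.p0 (J1P1045.p2 (J1P1045.p0 (J1P1045.p1 (J1P1045.p0 (J1P1045.p2 (J1P1045.p0 (J1P1045.p1 (J1P1045.p0 (J1P1045.p2 (J1P1045.p0 (J1P1045.p1 (J1P1045.p0 (J1P1045.p2 (J1P1045.p0 (J1P1045.p1 (J1P1045.p0 (J1P1045.p2 (J1P1045.p0 (J1P1045.p1 (J1P1045.p0 (J1P1045.p2 (J1P1045.p0 (J1P1045.p1 (J1P1045.p0 (J1P1045.p2 (J1P1045.p0 (J1P1045.p1 (J1P1045.p0 (J1P1045.p2 (J1P1045.p0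 (J1P1045.p1 (J1P1045.p0 (J1P1045.p2 (J1P1045.p0 (J1P1045.p1 (J1P1045.p0 (J1P1045.p2 (J1P1045.p0 (J1P1045.p1 (J1P1045.p0 (J1P1045.p2 (J1P1045.p0 (J1P1045.p1 (J1P1045.p0 (J1P1045.p2 (J1P1045.p0 (J1P1045.p1 (J1P1045.p0 (J1P1045.p2 (J1P1045.p0 (J1P1045.p1 (J1P1045.p0 (J1P1045.p2 (J1P1045.p0 (J1P1045.p1 (J1P1045.p0 (J1P1045.p2 (J1P1045.p0 (J1P1045.p1 (J1P1045.p0 i))))))))))))))))))))))))))))))))))))))))))))))))))))))))))))))))))))))))))))), fun _ => rfl⟩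
noncomputable def fy0 (i : Nat) : Bool := fixAll [yl0] i

end

end Cfsg.Agent.Lib.Helper35.J1POrd.X0
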